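import Cfsg.Agent.Lib.ReeG2.TwoGen
import Cfsg.Agent.Lib.ReeG2.Semis
import Cfsg.Agent.Lib.Chevalley.FieldMap

/-!
Field automorphisms of ²G₂(q), the subgroups fixed by the standard automorphisms, and the reduction
of an arbitrary automorphism to one normalising `U` and its opposite.
-/

set_option autoImplicit false
set_option linter.unusedSectionVars false

namespace CfsgLib.ReeOut

open Cfsg.Lie CfsgLib.Chev CfsgLib.ReeG2
open scoped Matrix

variable {K : Type*} [Field K] [CharP K 3] {θ : K ≃+* K} (hθ : IsRee θ)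
include hθ

theorem rg_coe (t u v : K) : ((rg hθ t u v : ↥(fixG θ)) : GL chevG2.Idx K) = ru θ t u v := rfl

theorem rg_mul (t u v t' u' v' : K) : rg hθ t u v * rg hθ t' u' v' =
    rg hθ (t + t') (u + u' - θ t' ^ 3 * t) (v + v' - θ t' ^ 3 * t ^ 2 - t' * (u - θ t' ^ 3 * t)) :=
  Subtype.ext (ru_mul hθ t u v t' u' v')

theorem rg_zero : rg hθ (0 : K) 0 0 = 1 := Subtype.ext ru_zero

theorem rg_inj {t u v t' u' v' : K} (h : rg hθ t u v = rg hθ t' u' v') : t = t' ∧ u = u' ∧ v = v' :=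
  ru_injective (congrArg Subtype.val h)

theorem hg_mul (a b : Kˣ) : hg hθ a * hg hθ b = hg hθ (a * b) := Subtype.ext (hh_mul a b)

theorem hg_one : hg hθ (1 : Kˣ) = 1 := Subtype.ext hh_one

theorem hg_inj {a b : Kˣ} (h : hg hθ a = hg hθ b) : a = b := hh_injective (congrArg Subtype.val h)

theorem hg_conj_rg (a : Kˣ) (t u v : K) : hg hθ a * rg hθ t u v * (hg hθ a)⁻¹ =
    rg hθ (bb θ a * t) (a ^ 3 * bb θ a * u) (a ^ 3 * bb θ a ^ 2 * v) :=
  Subtype.ext (hh_conj_ru hθ a t u v)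

theorem nn_inv : (nn hθ)⁻¹ = nn hθ := inv_eq_of_mul_eq_one_right (nn_mul_self hθ)

theorem nn_conj_hg (a : Kˣ) : nn hθ * hg hθ a * nn hθ = hg hθ a⁻¹ := by
  refine Subtype.ext ?_
  show n0 K * hh θ a * n0 K = hh θ a⁻¹
  rw [← n0_conj_hh, n0_inv]

theorem rg_mem_Uf (t u v : K) : rg hθ t u v ∈ Uf θ := (mem_Uf hθ).2 ⟨t, u, v, rfl⟩

theorem exists_rg {g : ↥(fixG θ)} (h : g ∈ Uf θ) : ∃ t u v, g = rg hθ t u v := by
  obtain ⟨t, u, v, e⟩ := (mem_Uf hθ).1 h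
  exact ⟨t, u, v, Subtype.ext e⟩

/-- the automorphisms normalising U and its opposite -/
def Std (φ : MulAut ↥(fixG θ)) : Prop :=
  (∀ x, φ x ∈ Uf θ ↔ x ∈ Uf θ) ∧ ∀ x, nn hθ * φ x * nn hθ ∈ Uf θ ↔ nn hθ * x * nn hθ ∈ Uf θ

theorem Std.mul {φ ψ : MulAut ↥(fixG θ)} (h : Std hθ φ) (h' : Std hθ ψ) : Std hθ (φ * ψ) :=
  ⟨fun x => (h.1 (ψ x)).trans (h'.1 x), fun x => (h.2 (ψ x)).trans (h'.2 x)⟩

theorem Std.inv {φ : MulAut ↥(fixG θ)} (h : Std hθ φ) : Std hθ φ⁻¹ := by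
  have e : ∀ x, φ (φ⁻¹ x) = x := fun x => φ.apply_symm_apply x
  refine ⟨fun x => ?_, fun x => ?_⟩
  · rw [← h.1 (φ⁻¹ x), e]
  · rw [← h.2 (φ⁻¹ x), e]

theorem hg_conj_mem (a : Kˣ) {x : ↥(fixG θ)} (h : x ∈ Uf θ) : hg hθ a * x * (hg hθ a)⁻¹ ∈ Uf θ := by
  obtain ⟨t, u, v, rfl⟩ := exists_rg hθ h
  rw [hg_conj_rg]
  exact rg_mem_Uf hθ _ _ _

theorem hg_conj_mem_iff (a : Kˣ) (x : ↥(fixG θ)) : hg hθ a * x * (hg hθ a)⁻¹ ∈ Uf θ ↔ x ∈ Uf θ := by
  refine ⟨fun h => ?_, hg_conj_mem hθ a⟩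
  have h' := hg_conj_mem hθ a⁻¹ h
  have e : hg hθ a⁻¹ = (hg hθ a)⁻¹ := by
    refine eq_inv_of_mul_eq_one_left ?_
    rw [hg_mul, inv_mul_cancel, hg_one]
  rw [e] at h'
  simpa [mul_assoc] using h'

theorem std_conj (a : Kˣ) : Std hθ (MulAut.conj (hg hθ a)) := by
  refine ⟨fun x => ?_, fun x => ?_⟩
  · rw [MulAut.conj_apply]; exact hg_conj_mem_iff hθ a x
  · rw [MulAut.conj_apply]
    have e : nn hθ * (hg hθ a * x * (hg hθ a)⁻¹) * nn hθ =
        hg hθ a⁻¹ * (nn hθ * x * nn hθ) * (hg hθ a⁻¹)⁻¹ := by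
      have h1 : (hg hθ a⁻¹)⁻¹ = nn hθ * (hg hθ a)⁻¹ * nn hθ := by
        rw [← nn_conj_hg hθ a, mul_inv_rev, mul_inv_rev, nn_inv, mul_assoc]
      rw [h1, ← nn_conj_hg hθ a]
      calc nn hθ * (hg hθ a * x * (hg hθ a)⁻¹) * nn hθ
          = nn hθ * hg hθ a * 1 * x * 1 * (hg hθ a)⁻¹ * nn hθ := by group
        _ = nn hθ * hg hθ a * (nn hθ * nn hθ) * x * (nn hθ * nn hθ) * (hg hθ a)⁻¹ * nn hθ := by
            rw [nn_mul_self]
        _ = _ := by group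
    rw [e]
    exact hg_conj_mem_iff hθ _ _

section
variable [Fintype K]

theorem map_Uf (ψ : MulAut ↥(fixG θ)) :
    ∃ g, (Uf θ).map ψ.toMonoidHom = (Uf θ).map (MulAut.conj g).toMonoidHom := by
  haveI : Fact (Nat.Prime 3) := ⟨Nat.prime_three⟩
  obtain ⟨n, -, hn⟩ := exists_three_pow (K := K)
  have hU : IsPGroup 3 ↥(Uf θ) := IsPGroup.of_card (n := n * 3) (by rw [card_Uf' hθ, hn, ← pow_mul])
  obtain ⟨g, hg'⟩ := exists_conj_le 3 (Uf θ) (Uf_index_prime hθ) _ (hU.map ψ.toMonoidHom)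
  refine ⟨g, Subgroup.eq_of_le_of_card_ge (fun x hx => ⟨g⁻¹ * x * g, hg' x hx, ?_⟩) ?_⟩
  · rw [MulEquiv.coe_toMonoidHom, MulAut.conj_apply]; group
  · exact ((Subgroup.card_map_of_injective ψ.injective).trans
      (Subgroup.card_map_of_injective (MulAut.conj g).injective).symm).ge

theorem map_conj_borel {b : ↥(fixG θ)} (hb : b ∈ Bf θ) :
    (Uf θ).map (MulAut.conj b).toMonoidHom = Uf θ := by
  refine Subgroup.eq_of_le_of_card_ge ?_ (Subgroup.card_map_of_injective (MulAut.conj b).injective).ge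
  rintro _ ⟨x, hx, rfl⟩
  obtain ⟨t, u, v, a, e⟩ := (mem_Bf hθ).1 hb
  have eb : b = rg hθ t u v * hg hθ a := Subtype.ext e
  rw [MulEquiv.coe_toMonoidHom, MulAut.conj_apply, eb,
    show rg hθ t u v * hg hθ a * x * (rg hθ t u v * hg hθ a)⁻¹ =
      rg hθ t u v * (hg hθ a * x * (hg hθ a)⁻¹) * (rg hθ t u v)⁻¹ by group]
  exact mul_mem (mul_mem (rg_mem_Uf hθ t u v) (hg_conj_mem hθ a hx)) (inv_mem (rg_mem_Uf hθ t u v))

/-- every automorphism is an inner one times a standard one -/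
theorem exists_std (φ : MulAut ↥(fixG θ)) : ∃ x, Std hθ (MulAut.conj x * φ) := by
  obtain ⟨g, hg1⟩ := map_Uf hθ φ
  set φ1 := MulAut.conj g⁻¹ * φ with hφ1
  have hU : (Uf θ).map φ1.toMonoidHom = Uf θ := by
    have e : φ1.toMonoidHom = (MulAut.conj g⁻¹).toMonoidHom.comp φ.toMonoidHom := rfl
    rw [e, ← Subgroup.map_map, hg1, Subgroup.map_map]
    convert Subgroup.map_id (Uf θ)
    ext x
    simp [mul_assoc]
  set V := (Uf θ).map (MulAut.conj (nn hθ)).toMonoidHom with hV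
  obtain ⟨k, hk⟩ : ∃ k, V.map φ1.toMonoidHom = (Uf θ).map (MulAut.conj k).toMonoidHom := by
    obtain ⟨k, hk⟩ := map_Uf hθ (φ1 * MulAut.conj (nn hθ))
    exact ⟨k, by rw [hV, Subgroup.map_map]; exact hk⟩
  have hne : V ≠ Uf θ := by
    intro e
    have h1 : nn hθ * rg hθ 1 0 0 * (nn hθ)⁻¹ ∈ Bf θ :=
      Uf_le_Bf hθ (e.le ⟨_, rg_mem_Uf hθ 1 0 0, rfl⟩)
    exact ru_ne_one (θ := θ) (Or.inl one_ne_zero) (mem_borel_neg_conj hθ (Subgroup.mem_subgroupOf.1 h1).1)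
  rcases cases_fix hθ k with hkB | ⟨b, hb, b', hb', rfl⟩
  · exact absurd (Subgroup.map_injective φ1.injective ((hk.trans (map_conj_borel hθ hkB)).trans hU.symm)) hne
  obtain ⟨t, u, v, a, e⟩ := (mem_Bf hθ).1 hb
  have eb : b = rg hθ t u v * hg hθ a := Subtype.ext e
  refine ⟨(rg hθ t u v)⁻¹ * g⁻¹, ?_⟩
  rw [map_mul, mul_assoc]
  set φ2 := MulAut.conj (rg hθ t u v)⁻¹ * φ1
  have hU2 : (Uf θ).map φ2.toMonoidHom = Uf θ := by
    rw [show φ2.toMonoidHom = (MulAut.conj (rg hθ t u v)⁻¹).toMonoidHom.comp φ1.toMonoidHom from rfl,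
      ← Subgroup.map_map, hU, map_conj_borel hθ (inv_mem (rg_mem_Bf hθ t u v))]
  have hV2 : V.map φ2.toMonoidHom = V := by
    rw [show φ2.toMonoidHom = (MulAut.conj (rg hθ t u v)⁻¹).toMonoidHom.comp φ1.toMonoidHom from rfl,
      ← Subgroup.map_map, hk, Subgroup.map_map]
    have e2 : (MulAut.conj (rg hθ t u v)⁻¹).toMonoidHom.comp (MulAut.conj (b * nn hθ * b')).toMonoidHom =
        (MulAut.conj (nn hθ)).toMonoidHom.comp (MulAut.conj (hg hθ a⁻¹ * b')).toMonoidHom := by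
      have e3 : (rg hθ t u v)⁻¹ * (b * nn hθ * b') = nn hθ * (hg hθ a⁻¹ * b') := by
        rw [eb, ← nn_conj_hg hθ a]
        calc (rg hθ t u v)⁻¹ * (rg hθ t u v * hg hθ a * nn hθ * b')
            = 1 * hg hθ a * nn hθ * b' := by group
          _ = (nn hθ * nn hθ) * hg hθ a * nn hθ * b' := by rw [nn_mul_self]
          _ = _ := by group
      refine MonoidHom.ext fun x => ?_
      show (MulAut.conj (rg hθ t u v)⁻¹ * MulAut.conj (b * nn hθ * b')) x =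
        (MulAut.conj (nn hθ) * MulAut.conj (hg hθ a⁻¹ * b')) x
      rw [← map_mul, ← map_mul, e3]
    rw [e2, ← Subgroup.map_map, map_conj_borel hθ (mul_mem (hg_mem_Bf hθ _) (Uf_le_Bf hθ hb'))]
  have hiff : ∀ W : Subgroup ↥(fixG θ), W.map φ2.toMonoidHom = W → ∀ x, φ2 x ∈ W ↔ x ∈ W := by
    intro W hW x
    conv_lhs => rw [← hW]
    exact ⟨fun ⟨y, hy, e⟩ => φ2.injective e ▸ hy, fun h => ⟨x, h, rfl⟩⟩
  have hVmem : ∀ y, nn hθ * y * nn hθ ∈ Uf θ ↔ y ∈ V := by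
    intro y
    refine ⟨fun h => ⟨_, h, ?_⟩, ?_⟩
    · show nn hθ * (nn hθ * y * nn hθ) * (nn hθ)⁻¹ = y
      calc nn hθ * (nn hθ * y * nn hθ) * (nn hθ)⁻¹ = (nn hθ * nn hθ) * y := by group
        _ = y := by rw [nn_mul_self, one_mul]
    · rintro ⟨z, hz, rfl⟩
      rw [MulEquiv.coe_toMonoidHom, MulAut.conj_apply,
        show nn hθ * (nn hθ * z * (nn hθ)⁻¹) * nn hθ = (nn hθ * nn hθ) * z by group, nn_mul_self, one_mul]
      exact hz
  exact ⟨hiff _ hU2, fun x => by rw [hVmem, hVmem]; exact hiff _ hV2 x⟩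

end

section
variable {e : ℕ} (hθe : ∀ x, θ x = x ^ e)
include hθe

omit hθ in
theorem map_theta (σ : RingAut K) (x : K) : σ (θ x) = θ (σ x) := by rw [hθe, hθe, map_pow]

omit hθ in
theorem glField_ru (σ : RingAut K) (t u v : K) :
    Chevalley.glFieldEquiv chevG2.Idx σ (ru θ t u v) = ru θ (σ t) (σ u) (σ v) := by
  have hX : ∀ {r : ℕ}, r < 12 → ∀ s : K, Chevalley.glFieldEquiv chevG2.Idx σ (X r s) = X r (σ s) := by
    intro r hr s
    refine Units.ext ?_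
    rw [Chevalley.glFieldEquiv_coe]
    exact ((congrArg (fun M : Matrix _ _ K => M.map σ) (coe_elX hc K hr s)).trans
      (Chevalley.x_map_ringHom chevG2 σ.toRingHom r s)).trans (coe_elX hc K hr _).symm
  simp only [ru, uu, map_mul, hX (show 7 < 12 by norm_num), hX (show 6 < 12 by norm_num),
    hX (show 8 < 12 by norm_num), hX (show 9 < 12 by norm_num), hX (show 10 < 12 by norm_num),
    hX (show 11 < 12 by norm_num)]
  simp [rc, map_theta hθe]

omit hθ hθe in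
theorem glField_n0 (σ : RingAut K) : Chevalley.glFieldEquiv chevG2.Idx σ (n0 K) = n0 K := by
  have hX : ∀ {r : ℕ}, r < 12 → ∀ s : K, Chevalley.glFieldEquiv chevG2.Idx σ (X r s) = X r (σ s) := by
    intro r hr s
    refine Units.ext ?_
    rw [Chevalley.glFieldEquiv_coe]
    exact ((congrArg (fun M : Matrix _ _ K => M.map σ) (coe_elX hc K hr s)).trans
      (Chevalley.x_map_ringHom chevG2 σ.toRingHom r s)).trans (coe_elX hc K hr _).symm
  have e8 : chevG2.neg 8 = 3 := by decide +kernel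
  have e10 : chevG2.neg 10 = 1 := by decide +kernel
  simp only [n0, elN, e8, e10, map_mul, hX (show 8 < 12 by norm_num), hX (show 3 < 12 by norm_num),
    hX (show 10 < 12 by norm_num), hX (show 1 < 12 by norm_num), map_one, map_neg, map_inv₀]

theorem glField_mem [Fintype K] (σ : RingAut K) {g : GL chevG2.Idx K} (hg' : g ∈ fixG θ) :
    Chevalley.glFieldEquiv chevG2.Idx σ g ∈ fixG θ := by
  rw [← genG_eq hθ] at hg' ⊢
  have hle : genG θ ≤ (genG θ).comap (Chevalley.glFieldEquiv chevG2.Idx σ).toMonoidHom := by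
    rw [genG, Subgroup.closure_le]
    rintro x ⟨t, u, v, rfl | rfl⟩ <;>
      rw [SetLike.mem_coe, Subgroup.mem_comap, MulEquiv.coe_toMonoidHom]
    · rw [glField_ru hθe]; exact ru_mem_genG _ _ _
    · rw [map_mul, map_mul, map_inv, glField_n0, glField_ru hθe]; exact ru_conj_mem_genG _ _ _
  exact hle hg'

variable [Fintype K]

/-- the field automorphisms -/
noncomputable def fieldHom : RingAut K →* MulAut ↥(fixG θ) where
  toFun σ :=
    { toFun := fun g => ⟨_, glField_mem hθ hθe σ g.2⟩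
      invFun := fun g => ⟨_, glField_mem hθ hθe σ⁻¹ g.2⟩
      left_inv := fun g => Subtype.ext (Units.ext (by
        ext i j; exact σ.symm_apply_apply _))
      right_inv := fun g => Subtype.ext (Units.ext (by
        ext i j; exact σ.apply_symm_apply _))
      map_mul' := fun a b => Subtype.ext (map_mul (Chevalley.glFieldEquiv chevG2.Idx σ) a.1 b.1) }
  map_one' := MulEquiv.ext fun g => Subtype.ext (Units.ext (by ext i j; rfl))
  map_mul' σ τ := MulEquiv.ext fun g => Subtype.ext (Units.ext (by ext i j; rfl))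

theorem fieldHom_rg (σ : RingAut K) (t u v : K) :
    fieldHom hθ hθe σ (rg hθ t u v) = rg hθ (σ t) (σ u) (σ v) := Subtype.ext (glField_ru hθe σ t u v)

theorem fieldHom_nn (σ : RingAut K) : fieldHom hθ hθe σ (nn hθ) = nn hθ := Subtype.ext (glField_n0 σ)

theorem std_field (σ : RingAut K) : Std hθ (fieldHom hθ hθe σ) := by
  have hmem : ∀ (τ : RingAut K) (x : ↥(fixG θ)), x ∈ Uf θ → fieldHom hθ hθe τ x ∈ Uf θ := by
    intro τ x hx
    obtain ⟨t, u, v, rfl⟩ := exists_rg hθ hx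
    rw [fieldHom_rg]
    exact rg_mem_Uf hθ _ _ _
  have key : ∀ x, fieldHom hθ hθe σ x ∈ Uf θ ↔ x ∈ Uf θ := fun x => ⟨fun h => by
    have h' := hmem σ⁻¹ _ h
    rwa [← MulAut.mul_apply, ← map_mul, inv_mul_cancel, map_one] at h', hmem σ x⟩
  refine ⟨key, fun x => ?_⟩
  rw [← key (nn hθ * x * nn hθ), map_mul, map_mul, fieldHom_nn]

end

end CfsgLib.ReeOut
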