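import Cfsg.Agent.Lib.ReeOut.Field
import Cfsg.Agent.Lib.AutPSL.FieldAut
import Cfsg.Agent.Lib.Semilinear.NormalAbelian
import Cfsg.Prelude.Def_KGroupFacts

/-!
The outer automorphism group of ²G₂(q) consists of the field automorphisms.
-/

set_option autoImplicit false
set_option linter.unusedSectionVars false

namespace CfsgLib.ReeOut

open Cfsg.Lie CfsgLib.Chev CfsgLib.ReeG2
open scoped Matrix

variable {K : Type*} [Field K] [Fintype K] [CharP K 3] {θ : K ≃+* K} (hθ : IsRee θ)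
include hθ

theorem bb_surj (s : Kˣ) : ∃ a, bb θ a = s := by
  classical
  refine (Finite.injective_iff_surjective (f := fun a : Kˣ => bb θ a)).1 (fun a b h => ?_) s
  have h1 : θ (a : K) ^ 3 = θ (b : K) ^ 3 := by rw [← coe_bb, ← coe_bb]; exact congrArg Units.val h
  exact Units.ext (θ.injective (cube_inj h1))

theorem theta_bb (a : Kˣ) : θ (bb θ a : K) = a := by rw [coe_bb, map_pow]; exact hθ _

theorem exists_ne (hq : 3 < Fintype.card K) : ∃ x : K, x ≠ 0 ∧ x ≠ 1 ∧ x ≠ -1 := by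
  classical
  by_contra h
  push Not at h
  have hle : (Finset.univ : Finset K) ⊆ {0, 1, -1} := fun x _ => by
    simp only [Finset.mem_insert, Finset.mem_singleton]
    by_cases h0 : x = 0
    · exact Or.inl h0
    by_cases h1 : x = 1
    · exact Or.inr (Or.inl h1)
    exact Or.inr (Or.inr (h x h0 h1))
  have := Finset.card_le_card hle
  rw [Finset.card_univ] at this
  have := this.trans Finset.card_le_three
  omega

/-- θ(x)³ is neither x nor -x away from 0, ±1 -/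
theorem cube_theta_ne {x : K} (h0 : x ≠ 0) (h1 : x ≠ 1) (h2 : x ≠ -1) :
    θ x ^ 3 ≠ x ∧ θ x ^ 3 ≠ -x := by
  have hsq : x ^ 2 ≠ 1 := fun e => by
    rcases sq_eq_one_iff.1 e with g | g
    · exact h1 g
    · exact h2 g
  constructor <;> intro e <;> apply hsq
  · have e' := congrArg θ e
    rw [map_pow, hθ] at e'
    rw [← e'] at e
    exact mul_left_cancel₀ h0 (by linear_combination e)
  · have e' := congrArg θ e
    rw [map_pow, hθ, map_neg] at e'
    have e3 : θ x = -x := by linear_combination e'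
    rw [e3] at e
    exact mul_left_cancel₀ h0 (by linear_combination -e)

theorem rg_cube_one {t u v : K} : rg hθ t u v ^ 3 = 1 ↔ t = 0 := by
  rw [← ru_cube_eq_one hθ (t := t) (u := u) (v := v)]
  exact ⟨fun h => congrArg Subtype.val h, fun h => Subtype.ext h⟩

section
variable {φ : MulAut ↥(fixG θ)} (hφ : Std hθ φ)
include hφ

theorem std_torus (a : Kˣ) : ∃ a', φ (hg hθ a) = hg hθ a' := by
  have hV : ∀ x : ↥(fixG θ), x ∈ Uf θ → nn hθ * (nn hθ * x * nn hθ) * nn hθ ∈ Uf θ := fun x hx => by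
    rwa [show nn hθ * (nn hθ * x * nn hθ) * nn hθ = (nn hθ * nn hθ) * x * (nn hθ * nn hθ) by group,
      nn_mul_self, one_mul, mul_one]
  set g := φ (hg hθ a) with hgdef
  have h1 : ∀ x, g * x * g⁻¹ ∈ Uf θ ↔ x ∈ Uf θ := by
    intro x
    obtain ⟨y, rfl⟩ := φ.surjective x
    rw [hgdef, ← map_inv, ← map_mul, ← map_mul, hφ.1, hg_conj_mem_iff, hφ.1]
  have h2 : ∀ x, nn hθ * (g * x * g⁻¹) * nn hθ ∈ Uf θ ↔ nn hθ * x * nn hθ ∈ Uf θ := by
    intro x
    obtain ⟨y, rfl⟩ := φ.surjective x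
    rw [hgdef, ← map_inv, ← map_mul, ← map_mul, hφ.2, hφ.2]
    exact (std_conj hθ a).2 y
  have normal_mem : ∀ k : ↥(fixG θ), (∀ x ∈ Uf θ, k * x * k⁻¹ ∈ Uf θ) → k ∈ Bf θ := by
    intro k hk
    rcases cases_fix hθ k with h | ⟨b, hb, b', hb', rfl⟩
    · exact h
    exfalso
    have hx : b'⁻¹ * rg hθ 1 0 0 * b' ∈ Uf θ := mul_mem (mul_mem (inv_mem hb') (rg_mem_Uf hθ 1 0 0)) hb'
    have h3 := Uf_le_Bf hθ (hk _ hx)
    have h4 : nn hθ * rg hθ 1 0 0 * (nn hθ)⁻¹ ∈ Bf θ := by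
      have h5 := mul_mem (mul_mem (inv_mem hb) h3) hb
      rwa [show b⁻¹ * (b * nn hθ * b' * (b'⁻¹ * rg hθ 1 0 0 * b') * (b * nn hθ * b')⁻¹) * b =
        nn hθ * rg hθ 1 0 0 * (nn hθ)⁻¹ by group] at h5
    exact ru_ne_one (θ := θ) (Or.inl one_ne_zero)
      (mem_borel_neg_conj hθ (Subgroup.mem_subgroupOf.1 h4).1)
  have hgB : g ∈ Bf θ := normal_mem g fun x hx => (h1 x).2 hx
  have hgB' : nn hθ * g * nn hθ ∈ Bf θ := normal_mem _ fun x hx => by
    rw [mul_inv_rev, mul_inv_rev, nn_inv,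
      show nn hθ * g * nn hθ * x * (nn hθ * (g⁻¹ * nn hθ)) = nn hθ * (g * (nn hθ * x * nn hθ) * g⁻¹) * nn hθ by group]
    exact (h2 _).2 (hV x hx)
  obtain ⟨t, u, v, b, e⟩ := (mem_Bf hθ).1 hgB
  have eg : g = rg hθ t u v * hg hθ b := Subtype.ext e
  refine ⟨b, ?_⟩
  have h6 : nn hθ * rg hθ t u v * (nn hθ)⁻¹ ∈ Bf θ := by
    have h7 := mul_mem hgB' (hg_mem_Bf hθ b)
    rw [eg, show nn hθ * (rg hθ t u v * hg hθ b) * nn hθ * hg hθ b =
      nn hθ * rg hθ t u v * (nn hθ)⁻¹ * (nn hθ * hg hθ b * nn hθ) * hg hθ b by group, nn_conj_hg,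
      mul_assoc, hg_mul, inv_mul_cancel, hg_one, mul_one] at h7
    exact h7
  rw [eg, show rg hθ t u v = 1 from Subtype.ext (mem_borel_neg_conj hθ (Subgroup.mem_subgroupOf.1 h6).1), one_mul]

/-- a standard automorphism acts on U/U' and on H through a field automorphism and a scalar -/
theorem std_linear : ∃ (a₀ : Kˣ) (σ : RingAut K),
    (∀ t, ∃ u v, φ (rg hθ t 0 0) = rg hθ ((bb θ a₀ : K) * σ t) u v) ∧
    ∀ a, φ (hg hθ a) = hg hθ (Units.map (σ : K ≃+* K).toRingHom.toMonoidHom a) := by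
  have hex : ∀ t u v, ∃ t' u' v', φ (rg hθ t u v) = rg hθ t' u' v' := fun t u v =>
    exists_rg hθ ((hφ.1 _).2 (rg_mem_Uf hθ t u v))
  choose α bu bv hα using hex
  choose β hβ using std_torus hθ hφ
  have h0 : ∀ u v, α 0 u v = 0 := by
    intro u v
    rw [← rg_cube_one hθ (u := bu 0 u v) (v := bv 0 u v), ← hα, ← map_pow, (rg_cube_one hθ).2 rfl, map_one]
  have hsplit : ∀ t u v, α t u v = α t 0 0 := by
    intro t u v
    have e : rg hθ t u v = rg hθ t 0 0 * rg hθ 0 u v := by rw [rg_mul]; simp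
    have := congrArg φ e
    rw [map_mul, hα, hα, hα, rg_mul, h0] at this
    simpa using (rg_inj hθ this).1
  have hadd : ∀ t t', α (t + t') 0 0 = α t 0 0 + α t' 0 0 := by
    intro t t'
    have := congrArg φ (rg_mul hθ t 0 0 t' 0 0)
    rw [map_mul, hα, hα, hα, rg_mul] at this
    have h1 := (rg_inj hθ this).1
    rw [hsplit (t + t')] at h1
    exact h1.symm
  have hmul : ∀ (a : Kˣ) t, α ((bb θ a : K) * t) 0 0 = (bb θ (β a) : K) * α t 0 0 := by
    intro a t
    have := congrArg φ (hg_conj_rg hθ a t 0 0)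
    rw [map_mul, map_mul, map_inv, hα, hα, hβ, hg_conj_rg] at this
    have h1 := (rg_inj hθ this).1
    rw [hsplit ((bb θ a : K) * t)] at h1
    exact h1.symm
  set c := α 1 0 0 with hc'
  have hc0 : c ≠ 0 := by
    intro e
    have h1 : φ (rg hθ 1 0 0) ^ 3 = 1 := by rw [hα, ← hc', e]; exact (rg_cube_one hθ).2 rfl
    rw [← map_pow, ← map_one φ] at h1
    exact one_ne_zero ((rg_cube_one hθ).1 (φ.injective h1))
  have hb : ∀ a, α (bb θ a : K) 0 0 = (bb θ (β a) : K) * c := fun a => by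
    have := hmul a 1
    rwa [mul_one] at this
  let f : K →+* K :=
    { toFun := fun t => α t 0 0 / c
      map_one' := div_self hc0
      map_zero' := by rw [h0, zero_div]
      map_add' := fun x y => by rw [hadd, add_div]
      map_mul' := fun x y => by
        by_cases hx : x = 0
        · subst hx; simp [h0]
        · obtain ⟨a, ha⟩ := bb_surj hθ (Units.mk0 x hx)
          have e : x = (bb θ a : K) := by rw [ha]; rfl
          rw [e, hmul, hb]
          field_simp }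
  let σ : RingAut K := RingEquiv.ofBijective f (Finite.injective_iff_bijective.1 f.injective)
  obtain ⟨a₀, ha₀⟩ := bb_surj hθ (Units.mk0 c hc0)
  have hσ : ∀ t, σ t = α t 0 0 / c := fun _ => rfl
  refine ⟨a₀, σ, fun t => ⟨bu t 0 0, bv t 0 0, ?_⟩, fun a => ?_⟩
  · rw [hα, ha₀, Units.val_mk0, hσ, mul_div_cancel₀ _ hc0]
  · rw [hβ]
    congr 1
    refine Units.ext ?_
    show (β a : K) = σ (a : K)
    have hcomm : ∀ z, σ (θ z) = θ (σ z) := by
      obtain ⟨n, -, hn⟩ := exists_three_pow (K := K)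
      haveI : Fact (Nat.Prime 3) := ⟨Nat.prime_three⟩
      haveI : IsCyclic (RingAut K) := (Semilinear.isCyclic_ringEquiv_and_card hn).1
      intro z
      letI := IsCyclic.commGroup (α := RingAut K)
      exact DFunLike.congr_fun (mul_comm σ θ) z
    rw [← theta_bb hθ (β a), ← theta_bb hθ a, hcomm, hσ, hb, mul_div_assoc, div_self hc0, mul_one]

end

section
variable {χ : MulAut ↥(fixG θ)} (hχ : Std hθ χ) (hH : ∀ a, χ (hg hθ a) = hg hθ a)
  (hT : ∀ t, ∃ u v, χ (rg hθ t 0 0) = rg hθ t u v) (hq : 3 < Fintype.card K)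
include hχ hH hT hq

theorem linear_of_scale {f : K → K} (hadd : ∀ x y, f (x + y) = f x + f y)
    (hscale : ∀ (a : Kˣ) x, f ((a : K) ^ 3 * bb θ a * x) = (a : K) ^ 3 * bb θ a * f x) :
    ∀ x, f x = x * f 1 := by
  classical
  let S : AddSubgroup K :=
    { carrier := {r | ∀ x, f (r * x) = r * f x}
      zero_mem' := fun x => by
        have := hadd 0 0
        simp only [add_zero] at this
        rw [zero_mul, zero_mul]
        linear_combination -this
      add_mem' := fun {r s} hr hs x => by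
        show f ((r + s) * x) = _
        rw [add_mul, hadd, hr x, hs x, add_mul]
      neg_mem' := fun {r} hr x => by
        have := hadd (-r * x) (r * x)
        rw [show -r * x + r * x = 0 by ring, hr x] at this
        have h00 := hadd 0 0
        simp only [add_zero] at h00
        linear_combination -this - h00 }
  let ν : Kˣ →* Kˣ :=
    { toFun := fun a => a ^ 3 * bb θ a
      map_one' := by simp [bb]
      map_mul' := fun a b => by simp only [bb, map_mul, mul_pow]; exact mul_mul_mul_comm _ _ _ _ }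
  have hker : Nat.card ν.ker ≤ 2 := by
    have hx : ∀ z : ν.ker, (z : Kˣ) = 1 ∨ (z : Kˣ) = -1 := fun z =>
      ReeG2.scale_u hθ (MonoidHom.mem_ker.1 z.2)
    refine (Nat.card_le_card_of_injective (β := Bool) (fun u : ν.ker => decide ((u : Kˣ) = 1)) fun x y h => ?_).trans
      (le_of_eq (show Nat.card Bool = 2 by simp))
    apply Subtype.ext
    rcases hx x with e | e <;> rcases hx y with e' | e' <;> simp only [e, e'] at h ⊢ <;> simp_all
  have hS : S = ⊤ := by
    refine ReeG2.eq_top_of_big S ?_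
    let g : Option ν.range → S := fun o => o.elim 0 fun z => ⟨(z : Kˣ), fun x => by
      obtain ⟨a, ha⟩ := z.2
      rw [← ha]
      show f (((a : K) ^ 3 * bb θ a) * x) = _
      exact hscale a x⟩
    have hg : Function.Injective g := by
      rintro (_ | x) (_ | y) h
      · rfl
      · exact absurd (congrArg Subtype.val h).symm (Units.ne_zero _)
      · exact absurd (congrArg Subtype.val h) (Units.ne_zero _)
      · exact congrArg some (Subtype.ext (Units.ext (congrArg Subtype.val h :)))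
    have h1 := Nat.card_le_card_of_injective g hg
    rw [Finite.card_option] at h1
    have h2 : Nat.card ν.range * Nat.card ν.ker = Nat.card Kˣ := by
      rw [← Subgroup.index_ker, mul_comm, Subgroup.card_mul_index]
    rw [Nat.card_units, Nat.card_eq_fintype_card (α := K)] at h2
    have h3 : Nat.card ν.range * Nat.card ν.ker ≤ Nat.card ν.range * 2 := Nat.mul_le_mul_left _ hker
    omega
  intro x
  have hx : x ∈ S := by rw [hS]; trivial
  have := hx 1
  rwa [mul_one] at this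

theorem map_layer_u : ∃ p : K, ∀ u, χ (rg hθ 0 u 0) = rg hθ 0 (u * p) 0 := by
  have hex : ∀ u, ∃ u' v', χ (rg hθ 0 u 0) = rg hθ 0 u' v' := by
    intro u
    obtain ⟨t', u', v', e⟩ := exists_rg hθ ((hχ.1 _).2 (rg_mem_Uf hθ 0 u 0))
    have ht : t' = 0 := by
      rw [← rg_cube_one hθ (u := u') (v := v'), ← e, ← map_pow, (rg_cube_one hθ).2 rfl, map_one]
    exact ⟨u', v', by rw [e, ht]⟩
  choose π ρ hπ using hex
  have hscale : ∀ (a : Kˣ) u, π ((a : K) ^ 3 * bb θ a * u) = (a : K) ^ 3 * bb θ a * π u ∧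
      ρ ((a : K) ^ 3 * bb θ a * u) = (a : K) ^ 3 * bb θ a ^ 2 * ρ u := by
    intro a u
    have := congrArg χ (hg_conj_rg hθ a 0 u 0)
    rw [mul_zero, mul_zero, map_mul, map_mul, map_inv, hH, hπ, hπ, hg_conj_rg] at this
    obtain ⟨-, e1, e2⟩ := rg_inj hθ this
    exact ⟨e1.symm, e2.symm⟩
  have hρ : ∀ u, ρ u = 0 := by
    intro u
    have := (hscale (-1) u).2
    rw [bb_neg_one] at this
    norm_num at this
    linear_combination -this + ρ u * three (K := K)
  have hadd : ∀ u u', π (u + u') = π u + π u' := by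
    intro u u'
    have := congrArg χ (rg_mul hθ 0 u 0 0 u' 0)
    rw [map_mul, hπ, hπ, rg_mul] at this
    simp only [map_zero, add_zero, mul_zero, zero_mul, sub_zero, ne_eq, OfNat.ofNat_ne_zero,
      not_false_eq_true, zero_pow] at this
    rw [hπ] at this
    exact ((rg_inj hθ this).2.1).symm
  refine ⟨π 1, fun u => ?_⟩
  rw [hπ, hρ, linear_of_scale hθ hχ hH hT hq hadd (fun a x => (hscale a x).1) u]

theorem map_layer_v : ∃ r : K, ∀ v, χ (rg hθ 0 0 v) = rg hθ 0 0 (v * r) := by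
  have hex : ∀ v, ∃ u' v', χ (rg hθ 0 0 v) = rg hθ 0 u' v' := by
    intro v
    obtain ⟨t', u', v', e⟩ := exists_rg hθ ((hχ.1 _).2 (rg_mem_Uf hθ 0 0 v))
    have ht : t' = 0 := by
      rw [← rg_cube_one hθ (u := u') (v := v'), ← e, ← map_pow, (rg_cube_one hθ).2 rfl, map_one]
    exact ⟨u', v', by rw [e, ht]⟩
  choose π τ hπ using hex
  have hscale : ∀ (a : Kˣ) v, π ((a : K) ^ 3 * bb θ a ^ 2 * v) = (a : K) ^ 3 * bb θ a * π v ∧
      τ ((a : K) ^ 3 * bb θ a ^ 2 * v) = (a : K) ^ 3 * bb θ a ^ 2 * τ v := by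
    intro a v
    have := congrArg χ (hg_conj_rg hθ a 0 0 v)
    rw [mul_zero, mul_zero, map_mul, map_mul, map_inv, hH, hπ, hπ, hg_conj_rg] at this
    obtain ⟨-, e1, e2⟩ := rg_inj hθ this
    exact ⟨e1.symm, e2.symm⟩
  have hadd : ∀ v v', π (v + v') = π v + π v' := by
    intro v v'
    have := congrArg χ (rg_mul hθ 0 0 v 0 0 v')
    rw [map_mul, hπ, hπ, rg_mul] at this
    simp only [map_zero, add_zero, mul_zero, zero_mul, sub_zero, ne_eq, OfNat.ofNat_ne_zero,
      not_false_eq_true, zero_pow] at this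
    rw [hπ] at this
    exact ((rg_inj hθ this).2.1).symm
  have hπ0 : ∀ v, π v = 0 := by
    intro v
    have h1 := (hscale (-1) v).1
    have h2 := hadd (-v) v
    have h00 := hadd 0 0
    rw [bb_neg_one] at h1
    norm_num at h1
    rw [neg_add_cancel] at h2
    simp only [add_zero] at h00
    linear_combination h1 + h2 + h00 + π v * three (K := K)
  let w : Kˣ →* Kˣ :=
    { toFun := fun a => a ^ 3 * bb θ a ^ 2
      map_one' := by simp [bb]
      map_mul' := fun a b => by simp only [bb, map_mul, mul_pow]; exact mul_mul_mul_comm _ _ _ _ }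
  have hw : Function.Surjective w :=
    Finite.injective_iff_surjective.1 ((injective_iff_map_eq_one w).2 fun a h => ReeG2.scale_v hθ h)
  refine ⟨τ 1, fun v => ?_⟩
  rw [hπ, hπ0]
  congr 1
  by_cases hv : v = 0
  · subst hv
    have e : rg hθ (0 : K) 0 0 = 1 := rg_zero hθ
    have := hπ 0
    rw [e, map_one, ← e] at this
    rw [zero_mul]
    exact ((rg_inj hθ this).2.2).symm
  · obtain ⟨a, ha⟩ := hw (Units.mk0 v hv)
    have := (hscale a 1).2
    rw [mul_one] at this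
    have e : v = (a : K) ^ 3 * bb θ a ^ 2 := (congrArg Units.val ha).symm
    rw [e]
    exact this

theorem fix_U (t u v : K) : χ (rg hθ t u v) = rg hθ t u v := by
  obtain ⟨p, hp⟩ := map_layer_u hθ hχ hH hT hq
  obtain ⟨r, hr⟩ := map_layer_v hθ hχ hH hT hq
  choose δ ε hδ using hT
  set T : K → K := fun z => θ z ^ 3 with hTdef
  have hT' : ∀ z, T z = θ z ^ 3 := fun _ => rfl
  have h00 : δ 0 = 0 ∧ ε 0 = 0 := by
    have := hδ 0
    rw [rg_zero, map_one, ← rg_zero hθ] at this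
    exact ⟨(rg_inj hθ this).2.1.symm, (rg_inj hθ this).2.2.symm⟩
  have hscale : ∀ (a : Kˣ), δ (bb θ a : K) = (a : K) ^ 3 * bb θ a * δ 1 ∧
      ε (bb θ a : K) = (a : K) ^ 3 * bb θ a ^ 2 * ε 1 := by
    intro a
    have := congrArg χ (hg_conj_rg hθ a 1 0 0)
    rw [mul_zero, mul_zero, mul_one, map_mul, map_mul, map_inv, hH, hδ, hδ, hg_conj_rg] at this
    obtain ⟨-, e1, e2⟩ := rg_inj hθ this
    exact ⟨e1.symm, e2.symm⟩
  have hform : ∀ z, δ z = T z * z * δ 1 ∧ ε z = T z * z ^ 2 * ε 1 := by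
    intro z
    by_cases hz : z = 0
    · subst hz; simp [h00]
    obtain ⟨a, ha⟩ := bb_surj hθ (Units.mk0 z hz)
    have e : z = (bb θ a : K) := by rw [ha]; rfl
    rw [e, hT', theta_bb hθ a]
    exact hscale a
  -- the relation from a product
  have key : ∀ z z' : K,
      δ z + δ z' - T z' * z = δ (z + z') + (-(T z' * z)) * p ∧
      ε z + ε z' - T z' * z ^ 2 - z' * (δ z - T z' * z) =
        ε (z + z') + (-(T z' * z ^ 2) + z' * (T z' * z)) * r := by
    intro z z'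
    have e1 : rg hθ z 0 0 * rg hθ z' 0 0 = rg hθ (z + z') 0 0 *
        rg hθ 0 (-(T z' * z)) 0 * rg hθ 0 0 (-(T z' * z ^ 2) + z' * (T z' * z)) := by
      rw [rg_mul, rg_mul, rg_mul]
      simp [hT']
    have := congrArg χ e1
    rw [map_mul, map_mul, map_mul, hδ, hδ, hδ, hp, hr, rg_mul, rg_mul, rg_mul] at this
    obtain ⟨-, k1, k2⟩ := rg_inj hθ this
    simp only [map_zero, ne_eq, OfNat.ofNat_ne_zero, not_false_eq_true, zero_pow, zero_mul, sub_zero,
      add_zero, mul_zero] at k1 k2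
    exact ⟨k1, k2⟩
  obtain ⟨x, hx0, hx1, hxm⟩ := exists_ne hθ hq
  obtain ⟨hne1, hne2⟩ := cube_theta_ne hθ hx0 hx1 hxm
  have hadd : T (x + 1) = T x + 1 := by rw [hT', hT', map_add, map_one, add_pow_char, one_pow]
  have hadd' : T (1 + x) = T x + 1 := by rw [add_comm, hadd]
  have hT1 : T 1 = 1 := by simp [hT']
  have k := key x 1
  have k' := key 1 x
  rw [(hform x).1, (hform x).2, (hform (x + 1)).1, (hform (x + 1)).2, hadd, hT1] at k
  rw [(hform x).1, (hform x).2, (hform (1 + x)).1, (hform (1 + x)).2, hadd'] at k'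
  set d := δ 1
  set e := ε 1
  have h3 := three (K := K)
  -- δ 1 = 0 and p = 1
  have hsub : (T x - x) * (p - 1) = 0 := by linear_combination k'.1 - k.1
  have hp1 : p = 1 := sub_eq_zero.1 ((mul_eq_zero.1 hsub).resolve_left fun h0 => hne1 (sub_eq_zero.1 h0))
  have hd : d = 0 := by
    have : (T x + x) * d = 0 := by
      rw [hp1] at k
      linear_combination -k.1
    exact (mul_eq_zero.1 this).resolve_left fun h0 => hne2 (eq_neg_of_add_eq_zero_left h0)
  rw [hd] at k k'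
  simp only [mul_zero, zero_sub] at k k'
  have hr1 : r = 1 := by
    have : (1 - x) * (x + T x) * (r - 1) = 0 := by linear_combination k'.2 - k.2
    rcases mul_eq_zero.1 this with h | h
    · rcases mul_eq_zero.1 h with h | h
      · exact absurd (sub_eq_zero.1 h).symm hx1
      · exact absurd (eq_neg_of_add_eq_zero_right h) hne2
    · exact sub_eq_zero.1 h
  have he : e = 0 := by
    rw [hr1] at k
    have : (x - T x) * (x - 1) * e = 0 := by
      linear_combination -k.2 - (x + T x * x) * e * h3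
    rcases mul_eq_zero.1 this with h | h
    · rcases mul_eq_zero.1 h with h | h
      · exact absurd (sub_eq_zero.1 h).symm hne1
      · exact absurd (sub_eq_zero.1 h) hx1
    · exact h
  have hzero : ∀ z, χ (rg hθ z 0 0) = rg hθ z 0 0 := by
    intro z
    rw [hδ, (hform z).1, (hform z).2, hd, he, mul_zero, mul_zero]
  have esplit : rg hθ t u v = rg hθ t 0 0 * rg hθ 0 u 0 * rg hθ 0 0 v := by
    rw [rg_mul, rg_mul]; simp
  rw [esplit, map_mul, map_mul, hzero, hp, hr, hp1, hr1, mul_one, mul_one]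

/-- the pair relation defining n₀ -/
theorem pair_rel (w : Kˣ) : ∃ j, rg hθ 0 w 0 * (nn hθ * rg hθ 0 (w : K)⁻¹ 0 * nn hθ) * rg hθ 0 w 0 =
    hg hθ j * nn hθ ∧ (w = 1 → j = 1) := by
  have e8 : chevG2.neg 8 = 3 := by decide +kernel
  have e10 : chevG2.neg 10 = 1 := by decide +kernel
  have hy : ∀ z : K, ru θ 0 z 0 = X 8 (θ z) * X 10 z := fun z => by
    simp [ru, rc, uu, X_zero]
  have hch : ∀ z ∈ ([(8, 10), (8, 1), (3, 10), (3, 1)] : List (ℕ × ℕ)), z.1 < 12 ∧ z.2 < 12 ∧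
      z.2 ≠ chevG2.neg z.1 ∧ chevG2.chainEntry z.1 z.2 = [] := by decide +kernel
  have c : ∀ p q : ℕ, (p, q) ∈ [(8, 10), (8, 1), (3, 10), (3, 1)] → ∀ a b : K, Commute (X p a) (X q b) := by
    intro p q hm a b
    obtain ⟨hp, hq, h1, h2⟩ := hch (p, q) hm
    exact CfsgLib.Twisted.commute_elX hc hp hq h1 h2 a b
  have hprod : (rg hθ 0 w 0 * (nn hθ * rg hθ 0 (w : K)⁻¹ 0 * nn hθ) * rg hθ 0 w 0 : ↥(fixG θ)).1 =
      elN chevG2 K 8 (Units.map (θ : K →* K) w : Kˣ) * elN chevG2 K 10 (w : K) := by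
    have hn : ∀ z : K, n0 K * (X 8 (θ z) * X 10 z) * n0 K = X 3 (-θ z) * X 1 (-z) := fun z => by
      rw [← n0_conj (show 8 < 12 by omega) (θ z), ← n0_conj (show 10 < 12 by omega) z, n0_inv]
      calc n0 K * (X 8 (θ z) * X 10 z) * n0 K = n0 K * X 8 (θ z) * 1 * X 10 z * n0 K := by group
        _ = n0 K * X 8 (θ z) * (n0 K * n0 K) * X 10 z * n0 K := by rw [n0_sq]
        _ = _ := by group
    show ru θ 0 (w : K) 0 * (n0 K * ru θ 0 (w : K)⁻¹ 0 * n0 K) * ru θ 0 (w : K) 0 = _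
    rw [hy, hy, hn, map_inv₀, elN, elN, e8, e10]
    simp only [Units.coe_map, MonoidHom.coe_coe]
    set A := X 8 (θ (w : K))
    set B := X 3 (-(θ (w : K))⁻¹)
    set C := X 10 (w : K)
    set D := X 1 (-(w : K)⁻¹)
    have h1 : C * B = B * C := (c 3 10 (by simp) _ _).eq.symm
    have h2 : C * A = A * C := (c 8 10 (by simp) _ _).eq.symm
    have h3 : D * A = A * D := (c 8 1 (by simp) _ _).eq.symm
    symm
    calc A * B * A * (C * D * C) = A * B * (A * C) * D * C := by group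
      _ = A * B * (C * A) * D * C := by rw [h2]
      _ = A * (B * C) * (A * D) * C := by group
      _ = A * (C * B) * (D * A) * C := by rw [h1, h3]
      _ = _ := by group
  have hN : (rg hθ 0 w 0 * (nn hθ * rg hθ 0 (w : K)⁻¹ 0 * nn hθ) * rg hθ 0 w 0) * nn hθ ∈ Hf θ ∧
      (w = 1 → rg hθ 0 w 0 * (nn hθ * rg hθ 0 (w : K)⁻¹ 0 * nn hθ) * rg hθ 0 w 0 = nn hθ) := by
    constructor
    · rw [Subgroup.mem_subgroupOf]
      refine ⟨?_, SetLike.coe_mem _⟩
      rw [Subgroup.coe_mul, hprod, elN_pair]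
      show _ * n0 K * n0 K ∈ _
      rw [mul_assoc, n0_sq, mul_one]
      exact mem_diag.2 ⟨_, _, rfl⟩
    · rintro rfl
      refine Subtype.ext (hprod.trans ?_)
      show _ = n0 K
      simp [n0]
  obtain ⟨j, hj⟩ := (mem_Hf hθ).1 hN.1
  have ej : rg hθ 0 w 0 * (nn hθ * rg hθ 0 (w : K)⁻¹ 0 * nn hθ) * rg hθ 0 w 0 * nn hθ = hg hθ j := Subtype.ext hj
  refine ⟨j, ?_, fun hw => ?_⟩
  · rw [← ej, mul_assoc _ (nn hθ) (nn hθ), nn_mul_self, mul_one]
  · rw [hN.2 hw, nn_mul_self, ← hg_one hθ] at ej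
    exact (hg_inj hθ ej).symm

theorem map_nn : χ (nn hθ) = nn hθ := by
  have hU := fix_U hθ hχ hH hT hq
  set d := nn hθ * χ (nn hθ) with hd
  -- d normalises U and its opposite
  have hV : ∀ x, nn hθ * χ (nn hθ * x * nn hθ) * nn hθ ∈ Uf θ ↔ x ∈ Uf θ := fun x => by
    rw [hχ.2, show nn hθ * (nn hθ * x * nn hθ) * nn hθ = (nn hθ * nn hθ) * x * (nn hθ * nn hθ) by group,
      nn_mul_self, one_mul, mul_one]
  have hst : Std hθ (MulAut.conj d) := by
    have e : ∀ x, d * x * d⁻¹ = nn hθ * χ (nn hθ * χ.symm x * nn hθ) * nn hθ := by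
      intro x
      rw [hd, map_mul, map_mul, χ.apply_symm_apply, mul_inv_rev,
        show (χ (nn hθ))⁻¹ = χ (nn hθ) by rw [← map_inv, nn_inv], nn_inv]
      group
    refine ⟨fun x => ?_, fun x => ?_⟩
    · rw [MulAut.conj_apply, e, hV, ← hχ.1, χ.apply_symm_apply]
    · rw [MulAut.conj_apply, e,
        show nn hθ * (nn hθ * χ (nn hθ * χ.symm x * nn hθ) * nn hθ) * nn hθ =
          (nn hθ * nn hθ) * χ (nn hθ * χ.symm x * nn hθ) * (nn hθ * nn hθ) by group,
        nn_mul_self, one_mul, mul_one, hχ.1, ← hχ.2, χ.apply_symm_apply]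
  -- hence d lies in the torus
  obtain ⟨j, hj⟩ : ∃ j, d = hg hθ j := by
    have normal_mem : ∀ k : ↥(fixG θ), (∀ x ∈ Uf θ, k * x * k⁻¹ ∈ Uf θ) → k ∈ Bf θ := by
      intro k hk
      rcases cases_fix hθ k with h | ⟨b, hb, b', hb', rfl⟩
      · exact h
      exfalso
      have hx : b'⁻¹ * rg hθ 1 0 0 * b' ∈ Uf θ := mul_mem (mul_mem (inv_mem hb') (rg_mem_Uf hθ 1 0 0)) hb'
      have h3 := Uf_le_Bf hθ (hk _ hx)
      have h4 : nn hθ * rg hθ 1 0 0 * (nn hθ)⁻¹ ∈ Bf θ := by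
        have h5 := mul_mem (mul_mem (inv_mem hb) h3) hb
        rwa [show b⁻¹ * (b * nn hθ * b' * (b'⁻¹ * rg hθ 1 0 0 * b') * (b * nn hθ * b')⁻¹) * b =
          nn hθ * rg hθ 1 0 0 * (nn hθ)⁻¹ by group] at h5
      exact ru_ne_one (θ := θ) (Or.inl one_ne_zero)
        (mem_borel_neg_conj hθ (Subgroup.mem_subgroupOf.1 h4).1)
    have hgB : d ∈ Bf θ := normal_mem d fun x hx => by
      have := (hst.1 x).2 hx
      rwa [MulAut.conj_apply] at this
    have hgB' : nn hθ * d * nn hθ ∈ Bf θ := normal_mem _ fun x hx => by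
      rw [mul_inv_rev, mul_inv_rev, nn_inv,
        show nn hθ * d * nn hθ * x * (nn hθ * (d⁻¹ * nn hθ)) = nn hθ * (d * (nn hθ * x * nn hθ) * d⁻¹) * nn hθ by group]
      have := (hst.2 (nn hθ * x * nn hθ)).2 (by
        rwa [show nn hθ * (nn hθ * x * nn hθ) * nn hθ = (nn hθ * nn hθ) * x * (nn hθ * nn hθ) by group,
          nn_mul_self, one_mul, mul_one])
      rwa [MulAut.conj_apply] at this
    obtain ⟨t, u, v, b, e⟩ := (mem_Bf hθ).1 hgB
    have eg : d = rg hθ t u v * hg hθ b := Subtype.ext e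
    refine ⟨b, ?_⟩
    have h6 : nn hθ * rg hθ t u v * (nn hθ)⁻¹ ∈ Bf θ := by
      have h7 := mul_mem hgB' (hg_mem_Bf hθ b)
      rw [eg, show nn hθ * (rg hθ t u v * hg hθ b) * nn hθ * hg hθ b =
        nn hθ * rg hθ t u v * (nn hθ)⁻¹ * (nn hθ * hg hθ b * nn hθ) * hg hθ b by group, nn_conj_hg,
        mul_assoc, hg_mul, inv_mul_cancel, hg_one, mul_one] at h7
      exact h7
    rw [eg, show rg hθ t u v = 1 from Subtype.ext (mem_borel_neg_conj hθ (Subgroup.mem_subgroupOf.1 h6).1), one_mul]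
  have hn : χ (nn hθ) = nn hθ * hg hθ j := by rw [← hj, hd, ← mul_assoc, nn_mul_self, one_mul]
  obtain ⟨j1, r1, hj1⟩ := pair_rel hθ hχ hH hT hq 1
  rw [hj1 rfl, hg_one, one_mul, Units.val_one, inv_one] at r1
  have r2 := congrArg χ r1
  rw [map_mul, map_mul, map_mul, map_mul, hU, hn] at r2
  have hhi : hg hθ j * hg hθ j⁻¹ = 1 := by rw [hg_mul, mul_inv_cancel, hg_one]
  set ν : Kˣ := j ^ 3 * bb θ j with hν
  have hmid : nn hθ * hg hθ j * rg hθ 0 1 0 * (nn hθ * hg hθ j) = nn hθ * rg hθ 0 (ν : K) 0 * nn hθ := by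
    have h1 : hg hθ j * rg hθ 0 1 0 = rg hθ 0 (ν : K) 0 * hg hθ j := by
      have := hg_conj_rg hθ j 0 1 0
      rw [mul_zero, mul_zero, mul_one, mul_inv_eq_iff_eq_mul] at this
      rw [this, hν, Units.val_mul, Units.val_pow_eq_pow_val]
    have h2 : hg hθ j * nn hθ = nn hθ * hg hθ j⁻¹ := by
      rw [← nn_conj_hg hθ j, ← mul_assoc, ← mul_assoc, nn_mul_self, one_mul]
    have h3 : hg hθ j⁻¹ * hg hθ j = 1 := by rw [hg_mul, inv_mul_cancel, hg_one]
    calc nn hθ * hg hθ j * rg hθ 0 1 0 * (nn hθ * hg hθ j)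
        = nn hθ * (hg hθ j * rg hθ 0 1 0) * nn hθ * hg hθ j := by group
      _ = nn hθ * rg hθ 0 (ν : K) 0 * (hg hθ j * nn hθ) * hg hθ j := by rw [h1]; group
      _ = nn hθ * rg hθ 0 (ν : K) 0 * nn hθ * (hg hθ j⁻¹ * hg hθ j) := by rw [h2]; group
      _ = _ := by rw [h3, mul_one]
  rw [hmid] at r2
  obtain ⟨j', r3, -⟩ := pair_rel hθ hχ hH hT hq ν⁻¹
  rw [Units.val_inv_eq_inv_val, inv_inv] at r3
  -- two normal forms of the same element
  have e2 : nn hθ * rg hθ 0 (ν : K) 0 * nn hθ =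
      (rg hθ 0 1 0)⁻¹ * (nn hθ * hg hθ j) * (rg hθ 0 1 0)⁻¹ := by rw [← r2]; group
  have e3 : nn hθ * rg hθ 0 (ν : K) 0 * nn hθ =
      (rg hθ 0 (ν : K)⁻¹ 0)⁻¹ * (hg hθ j' * nn hθ) * (rg hθ 0 (ν : K)⁻¹ 0)⁻¹ := by rw [← r3]; group
  have hinv : ∀ u : K, (rg hθ 0 u 0)⁻¹ = rg hθ 0 (-u) 0 := fun u => by
    refine inv_eq_of_mul_eq_one_right ?_
    rw [rg_mul, ← rg_zero hθ]
    simp
  rw [e2, hinv, hinv, show nn hθ * hg hθ j = hg hθ j⁻¹ * nn hθ by
    rw [← nn_conj_hg hθ j, mul_assoc, nn_mul_self, mul_one]] at e3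
  obtain ⟨-, hν1, -, -, -, -, -⟩ := big_unique (θ := θ)
    (t := 0) (u := -1) (v := 0) (a := j⁻¹) (x := 0) (y := -1) (z := 0)
    (t' := 0) (u' := -(ν : K)⁻¹) (v' := 0) (a' := j') (x' := 0) (y' := -(ν : K)⁻¹) (z' := 0)
    (by simpa [mul_assoc, rg, hg, nn] using congrArg Subtype.val e3)
  have hν' : ν = 1 := Units.ext (by
    rw [Units.val_one, ← inv_eq_one]
    exact (neg_injective hν1).symm)
  rw [hν', Units.val_one, r1] at r2
  rw [hn, ← r2]

end

section
variable {e : ℕ} (hθe : ∀ x, θ x = x ^ e) (hq : 3 < Fintype.card K)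
include hθe hq

theorem eq_one_of_fix {χ : MulAut ↥(fixG θ)} (hU : ∀ t u v, χ (rg hθ t u v) = rg hθ t u v)
    (hn : χ (nn hθ) = nn hθ) : χ = 1 := by
  refine MulEquiv.ext fun g => Subtype.ext ?_
  have hle : genG θ ≤
      (MonoidHom.eqLocus χ.toMonoidHom (MonoidHom.id _)).map (fixG θ).subtype := by
    rw [genG, Subgroup.closure_le]
    rintro x ⟨t, u, v, rfl | rfl⟩
    · exact ⟨rg hθ t u v, hU t u v, rfl⟩
    · refine ⟨nn hθ * rg hθ t u v * (nn hθ)⁻¹, ?_, rfl⟩
      show χ _ = _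
      rw [map_mul, map_mul, map_inv, hU, hn]
      rfl
  obtain ⟨y, hy, ey⟩ := hle (show (g : GL chevG2.Idx K) ∈ genG θ by rw [genG_eq hθ]; exact g.2)
  obtain rfl : y = g := Subtype.ext ey
  exact congrArg Subtype.val hy

theorem fieldHom_hg (σ : RingAut K) (a : Kˣ) : fieldHom hθ hθe σ (hg hθ a) =
    hg hθ (Units.map (σ : K ≃+* K).toRingHom.toMonoidHom a) := by
  obtain ⟨b, hb⟩ := std_torus hθ (std_field hθ hθe σ) a
  rw [hb]
  congr 1
  have := congrArg (fieldHom hθ hθe σ) (hg_conj_rg hθ a 1 0 0)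
  rw [map_mul, map_mul, map_inv, hb, fieldHom_rg, fieldHom_rg, hg_conj_rg] at this
  have h1 := (rg_inj hθ this).1
  rw [map_one, mul_one, mul_one] at h1
  refine Units.ext ?_
  show (b : K) = σ (a : K)
  rw [← theta_bb hθ b, ← theta_bb hθ a, map_theta hθe, h1]

/-- a standard automorphism is a torus conjugation times a field automorphism -/
theorem std_eq {φ : MulAut ↥(fixG θ)} (hφ : Std hθ φ) :
    ∃ a σ, φ = MulAut.conj (hg hθ a) * fieldHom hθ hθe σ := by
  obtain ⟨a₀, σ, hT, hH⟩ := std_linear hθ hφ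
  set ψ := MulAut.conj (hg hθ a₀) * fieldHom hθ hθe σ with hψ
  set χ := ψ⁻¹ * φ with hχdef
  have hχ : Std hθ χ := ((std_conj hθ a₀).mul hθ (std_field hθ hθe σ)).inv hθ |>.mul hθ hφ
  have happ : ∀ x, ψ (χ x) = φ x := fun x => ψ.apply_symm_apply _
  have hχH : ∀ a, χ (hg hθ a) = hg hθ a := by
    intro a
    apply ψ.injective
    rw [happ, hH, hψ, MulAut.mul_apply, fieldHom_hg hθ hθe hq, MulAut.conj_apply, hg_mul]
    rw [mul_comm a₀, ← hg_mul, mul_inv_cancel_right]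
  have hχT : ∀ t, ∃ u v, χ (rg hθ t 0 0) = rg hθ t u v := by
    intro t
    obtain ⟨t', u', v', e⟩ := exists_rg hθ ((hχ.1 _).2 (rg_mem_Uf hθ t 0 0))
    obtain ⟨u, v, h2⟩ := hT t
    rw [← happ, e, hψ, MulAut.mul_apply, fieldHom_rg, MulAut.conj_apply, hg_conj_rg] at h2
    refine ⟨u', v', ?_⟩
    rw [e, σ.injective (mul_left_cancel₀ (Units.ne_zero _) (rg_inj hθ h2).1)]
  refine ⟨a₀, σ, (inv_mul_eq_one.1 (eq_one_of_fix hθ hθe hq (χ := χ) (fix_U hθ hχ hχH hχT hq)
    (map_nn hθ hχ hχH hχT hq))).symm⟩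

theorem fieldHom_mem_inn {σ : RingAut K} (hσ : fieldHom hθ hθe σ ∈ Cfsg.Inn ↥(fixG θ)) : σ = 1 := by
  obtain ⟨g, hg1⟩ := hσ
  have hstd : Std hθ (MulAut.conj g) := by rw [show MulAut.conj g = fieldHom hθ hθe σ from hg1]; exact std_field hθ hθe σ
  have hg' : ∀ x, g * x * g⁻¹ = fieldHom hθ hθe σ x := fun x => DFunLike.congr_fun hg1 x
  -- the conjugating element is in the Borel subgroup
  obtain ⟨t, u, v, b, e⟩ : ∃ t u v b, g = rg hθ t u v * hg hθ b := by
    rcases cases_fix hθ g with h | ⟨b, hb, b', hb', rfl⟩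
    · obtain ⟨t, u, v, b, e⟩ := (mem_Bf hθ).1 h
      exact ⟨t, u, v, b, Subtype.ext e⟩
    exfalso
    have hx : b'⁻¹ * rg hθ 1 0 0 * b' ∈ Uf θ := mul_mem (mul_mem (inv_mem hb') (rg_mem_Uf hθ 1 0 0)) hb'
    have h3 : b * nn hθ * b' * (b'⁻¹ * rg hθ 1 0 0 * b') * (b * nn hθ * b')⁻¹ ∈ Uf θ := by
      have := (hstd.1 _).2 hx
      rwa [MulAut.conj_apply] at this
    have h4 : nn hθ * rg hθ 1 0 0 * (nn hθ)⁻¹ ∈ Bf θ := by
      have h5 := mul_mem (mul_mem (inv_mem hb) (Uf_le_Bf hθ h3)) hb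
      rwa [show b⁻¹ * (b * nn hθ * b' * (b'⁻¹ * rg hθ 1 0 0 * b') * (b * nn hθ * b')⁻¹) * b =
        nn hθ * rg hθ 1 0 0 * (nn hθ)⁻¹ by group] at h5
    exact ru_ne_one (θ := θ) (Or.inl one_ne_zero)
      (mem_borel_neg_conj hθ (Subgroup.mem_subgroupOf.1 h4).1)
  have hcoord : ∀ z, σ z = (bb θ b : K) * z := by
    intro z
    obtain ⟨t', u', v', einv⟩ := exists_rg hθ (inv_mem (rg_mem_Uf hθ t u v))
    have h1 := hg' (rg hθ z 0 0)
    rw [e, fieldHom_rg,
      show rg hθ t u v * hg hθ b * rg hθ z 0 0 * (rg hθ t u v * hg hθ b)⁻¹ =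
        rg hθ t u v * (hg hθ b * rg hθ z 0 0 * (hg hθ b)⁻¹) * (rg hθ t u v)⁻¹ by group,
      hg_conj_rg, einv, rg_mul, rg_mul] at h1
    have h2 := (rg_inj hθ h1).1
    have h3 : t + t' = 0 := by
      have h4 := mul_inv_cancel (rg hθ t u v)
      rw [einv, rg_mul, ← rg_zero hθ] at h4
      exact (rg_inj hθ h4).1
    linear_combination -h2 + h3
  have h1 := hcoord 1
  rw [map_one, mul_one] at h1
  refine RingEquiv.ext fun z => ?_
  rw [hcoord, ← h1, one_mul]
  rfl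

/-- the outer automorphism group has the order of the Galois group -/
theorem card_out {p f : ℕ} [Fact p.Prime] (hF : Fintype.card K = p ^ f) :
    Nat.card (Cfsg.Out ↥(fixG θ)) = f := by
  rw [← CfsgLib.AutPSL.card_ringAut (F := K) hF]
  refine (Nat.card_eq_of_bijective
    (fun σ : RingAut K => (QuotientGroup.mk (fieldHom hθ hθe σ) : Cfsg.Out ↥(fixG θ))) ⟨?_, ?_⟩).symm
  · intro σ τ h
    rw [QuotientGroup.eq, ← map_inv, ← map_mul] at h
    exact inv_mul_eq_one.1 (fieldHom_mem_inn hθ hθe hq h)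
  · intro x
    induction x using QuotientGroup.induction_on with
    | H φ =>
      obtain ⟨y, hy⟩ := exists_std hθ φ
      obtain ⟨a, σ, hk⟩ := std_eq hθ hθe hq hy
      refine ⟨σ, ?_⟩
      rw [QuotientGroup.eq]
      have hφ : φ = MulAut.conj (y⁻¹ * hg hθ a) * fieldHom hθ hθe σ := by
        rw [map_mul, map_inv, mul_assoc, ← hk, inv_mul_cancel_left]
      rw [hφ]
      refine ⟨(fieldHom hθ hθe σ).symm (y⁻¹ * hg hθ a), MulEquiv.ext fun x => ?_⟩
      change (fieldHom hθ hθe σ).symm (y⁻¹ * hg hθ a) * x * ((fieldHom hθ hθe σ).symm (y⁻¹ * hg hθ a))⁻¹ =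
        (fieldHom hθ hθe σ).symm ((y⁻¹ * hg hθ a) * fieldHom hθ hθe σ x * (y⁻¹ * hg hθ a)⁻¹)
      simp only [map_mul, map_inv, MulEquiv.symm_apply_apply]

end

end CfsgLib.ReeOut
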